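import Groth.Agent.An.H877.Val
import Groth.Agent.An.H888.ClsH
import Mathlib.Topology.FiberBundle.Basic
import Mathlib.Topology.Covering.Basic

/-!
# Classes of degree one with constant finite coefficients die on a finite covering

`exists_covering`: for `F` constant on `A` with finite value group and `α` a class of degree `1` of
`F` over `A`, there is a finite surjective covering `g : A' ⟶ A` with `res g α = 0`.
The covering is the torsor of local lifts, constructed as a `FiberBundleCore`.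
-/

set_option autoImplicit false
open CategoryTheory CategoryTheory.Limits TopologicalSpace Topology Opposite

noncomputable section

namespace Groth.Agent.An.H877.Tors

open Groth.Agent.An.H885.ClPoint Groth.Agent.An.H885.ClConst Groth.Agent.An.H877.Val
open Groth.Agent.Proet.ZU

variable {T : Type} [TopologicalSpace T]

section exact

variable {S : ShortComplex (An.Cl.Ab T)} (hS : S.ShortExact)
include hS

/-- Sections killed by `S.g` come from `S.X₁`. -/
theorem exists_of_g_eq_zero {B : An.Cl T} (t : An.Cl.sect S.X₂ B)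
    (ht : S.g.hom.app (op B) t = 0) : ∃ u : An.Cl.sect S.X₁ B, S.f.hom.app (op B) u = t := by
  have : Mono S.f := hS.mono_f
  have h0 : (ev (An.Cl.topology T) B S.X₂).symm t ≫ S.g = 0 := by
    rw [ev_symm_comp, ht, map_zero]
  refine ⟨ev (An.Cl.topology T) B S.X₁ (hS.exact.lift _ h0), ?_⟩
  rw [← ev_comp, hS.exact.lift_f, AddEquiv.apply_symm_apply]

theorem f_injective {B : An.Cl T} : Function.Injective (S.f.hom.app (op B)) := by
  have : Mono S.f := hS.mono_f
  intro u u' h
  apply (ev (An.Cl.topology T) B S.X₁).symm.injective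
  rw [← cancel_mono S.f, ev_symm_comp, ev_symm_comp, h]

end exact

/-- Local lifts of a section. -/
structure Lifts (S : ShortComplex (An.Cl.Ab T)) (A : An.Cl T) (s : An.Cl.sect S.X₃ A) where
  /-- the open sets -/
  U : A.E → Set A.E
  isOpen : ∀ a, IsOpen (U a)
  mem : ∀ a, a ∈ U a
  /-- the lifts -/
  t : ∀ a, An.Cl.sect S.X₂ (An.Cl.restrictOpen A (U a) (isOpen a))
  ht : ∀ a, S.g.hom.app _ (t a) = res S.X₃ (An.Cl.restrictOpenι A (U a) (isOpen a)) s

theorem exists_lifts {S : ShortComplex (An.Cl.Ab T)} (hS : S.ShortExact) (A : An.Cl T)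
    (s : An.Cl.sect S.X₃ A) : Nonempty (Lifts S A s) := by
  have hp : Epi S.g := hS.epi_g
  rw [← Sheaf.isLocallySurjective_iff_epi'] at hp
  have h := hp.imageSieve_mem s
  have h2 : ∀ a : A.E, ∃ (W : Set A.E) (hW : IsOpen W), a ∈ W ∧
      ∃ t : An.Cl.sect S.X₂ (An.Cl.restrictOpen A W hW),
        S.g.hom.app _ t = res S.X₃ (An.Cl.restrictOpenι A W hW) s := by
    intro a
    obtain ⟨B, g, ⟨t, ht⟩, hg, hb⟩ := h a
    refine ⟨Set.range g.toFun, hg.isOpen_range, hb, ?_⟩
    refine ⟨res S.X₂ (An.Cl.liftThrough (𝟙 A) g hg) t, ?_⟩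
    rw [← res_naturality, ht]
    have e : An.Cl.liftThrough (𝟙 A) g hg ≫ g =
        An.Cl.restrictOpenι A (Set.range g.toFun) hg.isOpen_range := by
      rw [An.Cl.liftThrough_comp]
      rfl
    rw [← e, res_comp]
  choose W hW ha t ht using h2
  exact ⟨⟨W, hW, ha, t, ht⟩⟩

namespace Lifts

variable {S : ShortComplex (An.Cl.Ab T)} {A : An.Cl T} {s : An.Cl.sect S.X₃ A} (L : Lifts S A s)

/-- `k : B ⟶ A` has image in `U i`. -/
def In (i : A.E) {B : An.Cl T} (k : B ⟶ A) : Prop := ∀ b, k.toFun b ∈ L.U i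

/-- A morphism with image in `U i`, corestricted. -/
def into {i : A.E} {B : An.Cl T} {k : B ⟶ A} (hk : L.In i k) :
    B ⟶ An.Cl.restrictOpen A (L.U i) (L.isOpen i) :=
  ⟨fun b => ⟨k.toFun b, hk b⟩, k.continuous.subtype_mk _, k.over⟩

theorem In.comp {L : Lifts S A s} {i : A.E} {B C : An.Cl T} {k : B ⟶ A} (hk : L.In i k) (l : C ⟶ B) :
    L.In i (l ≫ k) := fun c => hk (l.toFun c)

/-- The lift `t i` restricted along `k`. -/
def tB {i : A.E} {B : An.Cl T} {k : B ⟶ A} (hk : L.In i k) : An.Cl.sect S.X₂ B :=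
  res S.X₂ (L.into hk) (L.t i)

theorem res_tB {i : A.E} {B C : An.Cl T} {k : B ⟶ A} (hk : L.In i k) (l : C ⟶ B) :
    res S.X₂ l (L.tB hk) = L.tB (hk.comp l) := by
  rw [tB, ← res_comp]
  rfl

theorem g_tB {i : A.E} {B : An.Cl T} {k : B ⟶ A} (hk : L.In i k) :
    S.g.hom.app (op B) (L.tB hk) = res S.X₃ k s := by
  rw [tB, ← res_naturality, L.ht, ← res_comp]
  rfl

variable (hS : S.ShortExact)
include hS

theorem exists_u {i j : A.E} {B : An.Cl T} {k : B ⟶ A} (hi : L.In i k) (hj : L.In j k) :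
    ∃ u : An.Cl.sect S.X₁ B, S.f.hom.app (op B) u = L.tB hi - L.tB hj :=
  exists_of_g_eq_zero hS _ (by rw [map_sub, g_tB, g_tB, sub_self])

/-- The difference of two lifts. -/
def u {i j : A.E} {B : An.Cl T} {k : B ⟶ A} (hi : L.In i k) (hj : L.In j k) :
    An.Cl.sect S.X₁ B := (L.exists_u hS hi hj).choose

theorem f_u {i j : A.E} {B : An.Cl T} {k : B ⟶ A} (hi : L.In i k) (hj : L.In j k) :
    S.f.hom.app (op B) (L.u hS hi hj) = L.tB hi - L.tB hj := (L.exists_u hS hi hj).choose_spec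

theorem res_u {i j : A.E} {B C : An.Cl T} {k : B ⟶ A} (hi : L.In i k) (hj : L.In j k)
    (l : C ⟶ B) : res S.X₁ l (L.u hS hi hj) = L.u hS (hi.comp l) (hj.comp l) := by
  apply f_injective hS
  rw [← res_naturality, f_u, f_u, map_sub, res_tB, res_tB]

theorem u_self {i : A.E} {B : An.Cl T} {k : B ⟶ A} (hi : L.In i k) : L.u hS hi hi = 0 := by
  apply f_injective hS
  rw [f_u, sub_self, map_zero]

theorem u_add {i j l : A.E} {B : An.Cl T} {k : B ⟶ A} (hi : L.In i k) (hj : L.In j k)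
    (hl : L.In l k) : L.u hS hi hj + L.u hS hj hl = L.u hS hi hl := by
  apply f_injective hS
  rw [map_add, f_u, f_u, f_u, sub_add_sub_cancel]

variable {M : Type} [AddCommGroup M] {φ : M →+ An.Cl.sect S.X₁ A} (h : IsConstVia S.X₁ A φ)

omit hS in
theorem in_left (i : A.E) (W : Set A.E) (hW : IsOpen W) (hWi : W ⊆ L.U i) :
    L.In i (An.Cl.restrictOpenι A W hW) := fun b => hWi b.2

/-- The transition cocycle, on `U i ∩ U j`. -/
def gg (i j : A.E) (x : A.E) : M := by
  classical
  exact if hx : x ∈ L.U i ∩ L.U j then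
    val h (An.Cl.restrictOpenι A (L.U i ∩ L.U j) ((L.isOpen i).inter (L.isOpen j)))
      (L.u hS (L.in_left i _ _ Set.inter_subset_left) (L.in_left j _ _ Set.inter_subset_right))
      ⟨x, hx⟩
    else 0

/-- A morphism with image in an open subset, corestricted. -/
def corestrict {A B : An.Cl T} (k : B ⟶ A) (W : Set A.E) (hW : IsOpen W) (hk : ∀ b, k.toFun b ∈ W) :
    B ⟶ An.Cl.restrictOpen A W hW :=
  ⟨fun b => ⟨k.toFun b, hk b⟩, k.continuous.subtype_mk _, k.over⟩

theorem val_u {i j : A.E} {B : An.Cl T} {k : B ⟶ A} (hi : L.In i k) (hj : L.In j k) (b : B.E) :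
    val h k (L.u hS hi hj) b = L.gg hS h i j (k.toFun b) := by
  have hb : k.toFun b ∈ L.U i ∩ L.U j := ⟨hi b, hj b⟩
  rw [gg, dif_pos hb]
  have := val_res h (An.Cl.restrictOpenι A (L.U i ∩ L.U j) ((L.isOpen i).inter (L.isOpen j)))
    (L.u hS (L.in_left i _ _ Set.inter_subset_left) (L.in_left j _ _ Set.inter_subset_right))
    (corestrict k _ ((L.isOpen i).inter (L.isOpen j)) (fun b => ⟨hi b, hj b⟩)) b
  rw [res_u] at this
  exact this

theorem gg_self (i x : A.E) (hx : x ∈ L.U i) : L.gg hS h i i x = 0 := by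
  have hi : L.In i (An.Cl.restrictOpenι A (L.U i) (L.isOpen i)) := L.in_left i _ _ subset_rfl
  have := L.val_u hS h hi hi ⟨x, hx⟩
  rw [u_self, val_zero] at this
  exact this.symm

theorem gg_add (i j l x : A.E) (hi : x ∈ L.U i) (hj : x ∈ L.U j) (hl : x ∈ L.U l) :
    L.gg hS h i j x + L.gg hS h j l x = L.gg hS h i l x := by
  have hW : IsOpen (L.U i ∩ (L.U j ∩ L.U l)) := (L.isOpen i).inter ((L.isOpen j).inter (L.isOpen l))
  have h1 : L.In i (An.Cl.restrictOpenι A _ hW) := L.in_left i _ _ Set.inter_subset_left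
  have h2 : L.In j (An.Cl.restrictOpenι A _ hW) :=
    L.in_left j _ _ (Set.inter_subset_right.trans Set.inter_subset_left)
  have h3 : L.In l (An.Cl.restrictOpenι A _ hW) :=
    L.in_left l _ _ (Set.inter_subset_right.trans Set.inter_subset_right)
  have e1 := L.val_u hS h h1 h2 ⟨x, hi, hj, hl⟩
  have e2 := L.val_u hS h h2 h3 ⟨x, hi, hj, hl⟩
  have e3 := L.val_u hS h h1 h3 ⟨x, hi, hj, hl⟩
  have := val_add h (An.Cl.restrictOpenι A _ hW) (L.u hS h1 h2) (L.u hS h2 h3) ⟨x, hi, hj, hl⟩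
  rw [u_add, e1, e2, e3] at this
  exact this.symm

variable [TopologicalSpace M]

theorem continuousOn_gg (i j : A.E) : ContinuousOn (L.gg hS h i j) (L.U i ∩ L.U j) := by
  rw [continuousOn_iff_continuous_domRestrict]
  have : (L.U i ∩ L.U j).domRestrict (L.gg hS h i j) =
      val h (An.Cl.restrictOpenι A (L.U i ∩ L.U j) ((L.isOpen i).inter (L.isOpen j)))
      (L.u hS (L.in_left i _ _ Set.inter_subset_left) (L.in_left j _ _ Set.inter_subset_right)) := by
    funext x
    exact (L.val_u hS h (k := An.Cl.restrictOpenι A (L.U i ∩ L.U j)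
      ((L.isOpen i).inter (L.isOpen j))) _ _ x).symm
  rw [this]
  exact (isLocallyConstant_val h _ _).continuous

variable [DiscreteTopology M]

/-- The torsor as a fibre bundle. -/
def core : FiberBundleCore A.E A.E M where
  baseSet := L.U
  isOpen_baseSet := L.isOpen
  indexAt := id
  mem_baseSet_at := L.mem
  coordChange i j x v := v + L.gg hS h i j x
  coordChange_self i x hx v := by rw [gg_self _ _ _ _ _ hx, add_zero]
  continuousOn_coordChange i j := by
    have h1 : ContinuousOn (fun p : A.E × M => (p.2, L.gg hS h i j p.1))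
        ((L.U i ∩ L.U j) ×ˢ Set.univ) :=
      continuousOn_snd.prodMk ((L.continuousOn_gg hS h i j).comp continuousOn_fst
        (fun p hp => hp.1))
    exact (continuous_of_discreteTopology (f := fun q : M × M => q.1 + q.2)).comp_continuousOn h1
  coordChange_comp i j k x hx v := by
    rw [add_assoc, gg_add _ _ _ _ _ _ _ hx.1.1 hx.1.2 hx.2]

theorem isCoveringMap_proj : IsCoveringMap (L.core hS h).proj :=
  FiberBundle.isCoveringMap

/-- The torsor as an object of the classical site. -/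
def tot : An.Cl T :=
  ⟨(L.core hS h).TotalSpace, A.p ∘ (L.core hS h).proj,
    A.lh.comp (L.isCoveringMap_proj hS h).isLocalHomeomorph⟩

/-- The projection. -/
def π : L.tot hS h ⟶ A := ⟨(L.core hS h).proj, (L.isCoveringMap_proj hS h).continuous, fun _ => rfl⟩

/-- `k : B ⟶ tot` has image in the sheet `m` over `U i`. -/
def InSheet (i : A.E) (m : M) {B : An.Cl T} (k : B ⟶ L.tot hS h) : Prop :=
  ∀ b, (L.π hS h).toFun (k.toFun b) ∈ L.U i ∧ ((L.core hS h).localTriv i (k.toFun b)).2 = m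

theorem InSheet.in' {i : A.E} {m : M} {B : An.Cl T} {k : B ⟶ L.tot hS h}
    (hk : L.InSheet hS h i m k) : L.In i (k ≫ L.π hS h) := fun b => (hk b).1

theorem InSheet.comp {i : A.E} {m : M} {B C : An.Cl T} {k : B ⟶ L.tot hS h}
    (hk : L.InSheet hS h i m k) (l : C ⟶ B) : L.InSheet hS h i m (l ≫ k) :=
  fun c => hk (l.toFun c)

/-- The lift on a sheet. -/
def tau {i : A.E} {m : M} {B : An.Cl T} {k : B ⟶ L.tot hS h}
    (hk : L.InSheet hS h i m k) : An.Cl.sect S.X₂ B :=
  L.tB (hk.in' L hS h) + S.f.hom.app (op B) (res S.X₁ (k ≫ L.π hS h) (φ m))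

theorem res_tau {i : A.E} {m : M} {B C : An.Cl T} {k : B ⟶ L.tot hS h}
    (hk : L.InSheet hS h i m k) (l : C ⟶ B) :
    res S.X₂ l (L.tau hS h hk) = L.tau hS h (hk.comp L hS h l) := by
  rw [tau, tau, map_add, res_tB, res_naturality, ← res_comp]
  rfl

theorem g_tau {i : A.E} {m : M} {B : An.Cl T} {k : B ⟶ L.tot hS h}
    (hk : L.InSheet hS h i m k) :
    S.g.hom.app (op B) (L.tau hS h hk) = res S.X₃ (k ≫ L.π hS h) s := by
  have e : S.g.hom.app (op B) (S.f.hom.app (op B) (res S.X₁ (k ≫ L.π hS h) (φ m))) = 0 :=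
    congrArg (fun (q : S.X₁ ⟶ S.X₃) => q.hom.app (op B) (res S.X₁ (k ≫ L.π hS h) (φ m))) S.zero
  rw [tau, map_add, e, add_zero, g_tB]

theorem tau_eq {i j : A.E} {m m' : M} {B : An.Cl T} {k : B ⟶ L.tot hS h}
    (hk : L.InSheet hS h i m k) (hk' : L.InSheet hS h j m' k) :
    L.tau hS h hk = L.tau hS h hk' := by
  have e : L.u hS (hk.in' L hS h) (hk'.in' L hS h) = res S.X₁ (k ≫ L.π hS h) (φ (m' - m)) := by
    refine ext_of_val h (k ≫ L.π hS h) fun b => ?_
    rw [val_const, val_u]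
    have h1 := (hk b).2
    have h2 := (hk' b).2
    let v : M := (k.toFun b).2
    change v + L.gg hS h (k.toFun b).1 i (k.toFun b).1 = m at h1
    change v + L.gg hS h (k.toFun b).1 j (k.toFun b).1 = m' at h2
    have h3 := L.gg_add hS h (k.toFun b).1 i j (k.toFun b).1 (L.mem _) (hk b).1 (hk' b).1
    change L.gg hS h i j (k.toFun b).1 = m' - m
    rw [← h1, ← h2, ← h3]
    abel
  have e2 := congrArg (S.f.hom.app (op B)) e
  rw [f_u, map_sub, map_sub, map_sub] at e2
  rw [tau, tau]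
  rw [sub_eq_sub_iff_add_eq_add] at e2
  rw [e2, add_comm]

theorem exists_sheet (y : (L.tot hS h).E) : ∃ (i : A.E) (m : M) (B : An.Cl T)
    (k : B ⟶ L.tot hS h) (b : B.E), k.toFun b = y ∧ L.InSheet hS h i m k := by
  let Z := L.core hS h
  let i : A.E := y.1
  let m : M := (Z.localTriv i y).2
  let W : Set Z.TotalSpace := (Z.localTriv i).source ∩ (Z.localTriv i) ⁻¹' (Set.univ ×ˢ {m})
  have hW : IsOpen W := (Z.localTriv i).continuousOn_toFun.isOpen_inter_preimage
    (Z.localTriv i).open_source (isOpen_univ.prod (isOpen_discrete _))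
  have hy : y ∈ W := by
    refine ⟨?_, Set.mem_univ _, rfl⟩
    rw [FiberBundleCore.mem_localTriv_source]
    exact L.mem _
  refine ⟨i, m, An.Cl.restrictOpen (L.tot hS h) W hW, An.Cl.restrictOpenι (L.tot hS h) W hW,
    (⟨y, hy⟩ : W), rfl, ?_⟩
  intro b
  exact ⟨b.2.1, b.2.2.2⟩

theorem exists_lift : ∃ t : An.Cl.sect S.X₂ (L.tot hS h),
    S.g.hom.app _ t = res S.X₃ (L.π hS h) s := by
  have h0 := (Presheaf.isSheaf_iff_isSheaf_forget _ _ (forget AddCommGrpCat.{1})).1 S.X₂.property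
  rw [isSheaf_iff_isSheaf_of_type] at h0
  let R : Sieve (L.tot hS h) :=
    { arrows := fun B k => ∃ (i : A.E) (m : M), L.InSheet hS h i m k
      downward_closed := by
        rintro B C k ⟨i, m, hk⟩ l
        exact ⟨i, m, hk.comp L hS h l⟩ }
  have hR : R ∈ An.Cl.topology T (L.tot hS h) := (mem_topology_iff R).2 fun y => by
    obtain ⟨i, m, B, k, b, hb, hk⟩ := L.exists_sheet hS h y
    exact ⟨B, k, b, ⟨i, m, hk⟩, hb⟩
  let fam : Presieve.FamilyOfElements (S.X₂.obj ⋙ forget AddCommGrpCat.{1}) R.arrows :=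
    fun B k hk => L.tau hS h hk.choose_spec.choose_spec
  have hfam : fam.Compatible := by
    rw [Presieve.compatible_iff_sieveCompatible]
    intro B C k l hk
    change L.tau hS h _ = res S.X₂ l (L.tau hS h _)
    rw [res_tau]
    exact L.tau_eq hS h _ _
  obtain ⟨t, ht, -⟩ := (h0 R hR) fam hfam
  refine ⟨t, ?_⟩
  refine eq_of_forall_exists_map_eq S.X₃ _ _ fun y => ?_
  obtain ⟨i, m, B, k, b, hb, hk⟩ := L.exists_sheet hS h y
  refine ⟨B, k, b, hb, ?_⟩
  have e : res S.X₂ k t = L.tau hS h hk := by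
    have := ht k ⟨i, m, hk⟩
    change res S.X₂ k t = L.tau hS h _ at this
    rw [this]
    exact L.tau_eq hS h _ _
  change res S.X₃ k (S.g.hom.app _ t) = res S.X₃ k (res S.X₃ (L.π hS h) s)
  rw [res_naturality, e, g_tau, ← res_comp]

end Lifts

open Groth.Agent.An.H888 in
/-- **Classes of degree one with constant coefficients die on the associated torsor.** -/
theorem exists_covering_via {F : An.Cl.Ab T} {A : An.Cl T} {M : Type} [AddCommGroup M] [Finite M]
    {φ : M →+ An.Cl.sect F A} (h : IsConstVia F A φ) (α : ClsH.HA A F 1) :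
    ∃ (A' : An.Cl T) (g : A' ⟶ A), IsCoveringMap g.toFun ∧ (∀ a, (g.toFun ⁻¹' {a}).Finite) ∧
      Function.Surjective g.toFun ∧ ClsH.res g α = 0 := by
  obtain ⟨I, Q, i, p, w, hI, hS⟩ := CohtopA.DimShift.exists_shortExact_injective F
  obtain ⟨y, rfl⟩ := Abelian.Ext.covariant_sequence_exact₁ _ hS α
    (Abelian.Ext.eq_zero_of_injective (n := 0) _) (zero_add 1)
  obtain ⟨s, rfl⟩ := ClsH.exists_eq_mk₀ y
  obtain ⟨L⟩ := exists_lifts hS A s
  let _ : TopologicalSpace M := ⊥
  have : DiscreteTopology M := ⟨rfl⟩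
  refine ⟨L.tot hS h, L.π hS h, L.isCoveringMap_proj hS h, ?_, ?_, ?_⟩
  · intro a
    have : (L.π hS h).toFun ⁻¹' {a} ⊆ Set.range (fun m : M => (⟨a, m⟩ : (L.core hS h).TotalSpace)) := by
      rintro ⟨x, v⟩ hx
      change x = a at hx
      subst hx
      exact ⟨v, rfl⟩
    exact (Set.finite_range _).subset this
  · intro a
    exact ⟨⟨a, (0 : M)⟩, rfl⟩
  · exact (ClsH.res_boundary_eq_zero_iff hS _ s).2 (L.exists_lift hS h)

open Groth.Agent.An.H888 in
/-- **Classes of degree one with finite constant coefficients die on a finite covering.** -/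
theorem exists_covering {A : An.Cl T} (M : Type) [AddCommGroup M] [Finite M]
    (α : ClsH.HA A (An.Cl.const T M) 1) :
    ∃ (A' : An.Cl T) (g : A' ⟶ A), IsCoveringMap g.toFun ∧ (∀ a, (g.toFun ⁻¹' {a}).Finite) ∧
      Function.Surjective g.toFun ∧ ClsH.res g α = 0 :=
  exists_covering_via (isConstVia_constSec M A) α

end Groth.Agent.An.H877.Tors
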