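import Groth.Agent.An.H863.PtsPullback
import Groth.Agent.An.H867.Closure
import Groth.Agent.An.H871.Imm
import Mathlib.Topology.SeparatedMap
import Mathlib.AlgebraicGeometry.Noetherian
import Mathlib.AlgebraicGeometry.Morphisms.FiniteType
import Mathlib.AlgebraicGeometry.Morphisms.Separated

/-!
# Separated morphisms and complex points

`IsSeparated f ↔ IsSeparatedMap (Pts.map f)` for morphisms of schemes locally of finite type over ℂ,
and the range of an immersion is closed iff its set of complex points is closed.
-/

set_option autoImplicit false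
open CategoryTheory AlgebraicGeometry Topology TopologicalSpace

noncomputable section

namespace Groth.Agent.An.H877.Sep

/-- Every subset of a locally Noetherian scheme is retrocompact. -/
lemma isRetrocompact (X : Scheme.{0}) [IsLocallyNoetherian X] (s : Set X) : IsRetrocompact s := by
  intro U hU hUo
  let V : X.Opens := ⟨U, hUo⟩
  have : CompactSpace V.toScheme := isCompact_iff_compactSpace.1 hU
  have : IsLocallyNoetherian V.toScheme := inferInstance
  have : IsNoetherian V.toScheme := {}
  have h1 : IsCompact (V.ι ⁻¹' s) := NoetherianSpace.isCompact _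
  have h2 := h1.image V.ι.continuous
  rw [Set.image_preimage_eq_inter_range, Scheme.Opens.range_ι] at h2
  exact h2

lemma isConstructible_of_isOpen (X : Scheme.{0}) [IsLocallyNoetherian X] {U : Set X}
    (hU : IsOpen U) : IsConstructible U :=
  (isRetrocompact X U).isConstructible hU

lemma isConstructible_of_isClosed (X : Scheme.{0}) [IsLocallyNoetherian X] {Z : Set X}
    (hZ : IsClosed Z) : IsConstructible Z := by
  rw [← isConstructible_compl]
  exact isConstructible_of_isOpen X hZ.isOpen_compl

/-- A locally closed subset of a locally Noetherian scheme is constructible. -/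
lemma isConstructible_of_isLocallyClosed (X : Scheme.{0}) [IsLocallyNoetherian X] {Z : Set X}
    (hZ : IsLocallyClosed Z) : IsConstructible Z := by
  obtain ⟨U, C, hU, hC, rfl⟩ := hZ
  exact (isConstructible_of_isOpen X hU).inter (isConstructible_of_isClosed X hC)

/-- A scheme locally of finite type over ℂ is locally Noetherian. -/
lemma isLocallyNoetherian (X : Scheme.{0}) [X.Over An.SC] [LocallyOfFiniteType (X ↘ An.SC)] :
    IsLocallyNoetherian X := by
  have : IsLocallyNoetherian An.SC := inferInstance
  exact LocallyOfFiniteType.isLocallyNoetherian (X ↘ An.SC)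

/-- A constructible set whose set of complex points is closed is closed. -/
theorem isClosed_of_isClosed_preimage {Y : Scheme.{0}} [Y.Over An.SC]
    [LocallyOfFiniteType (Y ↘ An.SC)] {T : Set Y} (hT : IsLocallyConstructible T)
    (h : IsClosed (An.Pts.pt ⁻¹' T : Set (An.Pts Y))) : IsClosed T := by
  have h1 := Groth.Agent.An.H867.Closure.closure_preimage_pt hT
  rw [h.closure_eq] at h1
  have := isLocallyNoetherian Y
  have h2 := (Groth.Agent.An.H871.Basic.eq_iff_of_isLocallyConstructible hT
    (isConstructible_of_isClosed Y (isClosed_closure (s := T))).isLocallyConstructible).2 h1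
  rw [h2]
  exact isClosed_closure

theorem isClosed_iff_isClosed_preimage {Y : Scheme.{0}} [Y.Over An.SC]
    [LocallyOfFiniteType (Y ↘ An.SC)] {T : Set Y} (hT : IsLocallyConstructible T) :
    IsClosed T ↔ IsClosed (An.Pts.pt ⁻¹' T : Set (An.Pts Y)) :=
  ⟨fun h => h.preimage An.Pts.continuous_pt, isClosed_of_isClosed_preimage hT⟩

/-- The range of an immersion over ℂ is closed iff its set of complex points is. -/
theorem isClosedImmersion_iff {X Y : Scheme.{0}} [X.Over An.SC] [Y.Over An.SC]
    [LocallyOfFiniteType (Y ↘ An.SC)] (i : X ⟶ Y) [i.IsOver An.SC] [IsImmersion i] :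
    IsClosedImmersion i ↔ IsClosed (Set.range (An.Pts.map i)) := by
  rw [Groth.Agent.An.H871.Imm.range_map_of_isImmersion i]
  have := isLocallyNoetherian Y
  rw [← isClosed_iff_isClosed_preimage
    (isConstructible_of_isLocallyClosed Y i.isLocallyClosed_range).isLocallyConstructible]
  exact ⟨fun h => i.isClosedEmbedding.isClosed_range, fun h => .of_isPreimmersion i h⟩

variable {X S : Scheme.{0}} [X.Over An.SC] [S.Over An.SC]

/-- The diagonal of a morphism over ℂ is a morphism over ℂ. -/
lemma isOver_diagonal (f : X ⟶ S) [f.IsOver An.SC] :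
    (Limits.pullback.diagonal f : X ⟶ Limits.pullback f f).IsOver An.SC :=
  ⟨by
    change Limits.pullback.diagonal f ≫ Limits.pullback.fst f f ≫ (X ↘ An.SC) = _
    rw [Limits.pullback.diagonal_fst_assoc]⟩

/-- A morphism of schemes over ℂ, with source locally of finite type, is separated if and only if it
is a separated map on complex points. -/
theorem isSeparated_iff_isSeparatedMap (f : X ⟶ S) [f.IsOver An.SC]
    [LocallyOfFiniteType (X ↘ An.SC)] [LocallyOfFiniteType (S ↘ An.SC)] :
    IsSeparated f ↔ IsSeparatedMap (An.Pts.map f) := by
  have := isOver_diagonal f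
  have hf : LocallyOfFiniteType f :=
    Groth.Agent.An.H871.Basic.locallyOfFiniteType_of_isOver f
  have : LocallyOfFiniteType (Limits.pullback f f ↘ An.SC) := by
    change LocallyOfFiniteType (Limits.pullback.fst f f ≫ X ↘ An.SC)
    infer_instance
  rw [isSeparated_iff, isClosedImmersion_iff, isSeparatedMap_iff_isClosed_diagonal]
  let e := Groth.Agent.An.H863.PtsPullback.homeo f f
  have h1 : Set.range (An.Pts.map (Limits.pullback.diagonal f)) =
      e ⁻¹' ((An.Pts.map f).pullbackDiagonal) := by
    ext z
    constructor
    · rintro ⟨x, rfl⟩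
      change An.Pts.map (Limits.pullback.fst f f) _ = An.Pts.map (Limits.pullback.snd f f) _
      refine Subtype.ext ?_
      simp
    · intro hz
      change An.Pts.map (Limits.pullback.fst f f) z = An.Pts.map (Limits.pullback.snd f f) z at hz
      refine ⟨An.Pts.map (Limits.pullback.fst f f) z, Subtype.ext ?_⟩
      have hz' := congrArg Subtype.val hz
      simp only [An.Pts.map_val] at hz' ⊢
      apply Limits.pullback.hom_ext
      · simp
      · simpa using hz'
  rw [h1]
  exact e.isClosed_preimage

end Groth.Agent.An.H877.Sep
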