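import Groth.Agent.An.H885.ClConst
import Mathlib.Topology.LocallyConstant.Basic

/-!
# Values of sections of a constant sheaf on the classical site

Let `φ : M → F(A)` exhibit `F|_A` as constant (`IsConstVia F A φ`).  For `g : B ⟶ A`, a section
`s ∈ F(B)` and `b : B.E`, `val h g s b : M` is the value of `s` at `b`: the unique `m` such that
`s` agrees with `φ m` near `b`.
-/

universe u

set_option autoImplicit false
open CategoryTheory CategoryTheory.Limits TopologicalSpace Topology Opposite

noncomputable section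

namespace Groth.Agent.An.H877.Val

open Groth.Agent.An.H885.ClPoint Groth.Agent.An.H885.ClConst

variable {T : Type u} [TopologicalSpace T]

section

variable {F : An.Cl.Ab T} {A : An.Cl T} {M : Type*} [AddCommGroup M] {φ : M →+ An.Cl.sect F A}

/-- The value of a section of a constant sheaf at a point. -/
def val (h : IsConstVia F A φ) {B : An.Cl T} (g : B ⟶ A) (s : An.Cl.sect F B) (b : B.E) : M :=
  (h.surj B g b s).choose_spec.choose_spec.choose_spec.choose

theorem val_spec (h : IsConstVia F A φ) {B : An.Cl T} (g : B ⟶ A) (s : An.Cl.sect F B) (b : B.E) :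
    ∃ (C : An.Cl T) (k : C ⟶ B) (c : C.E), k.toFun c = b ∧
      res F k s = res F (k ≫ g) (φ (val h g s b)) :=
  ⟨_, _, _, (h.surj B g b s).choose_spec.choose_spec.choose_spec.choose_spec⟩

theorem val_eq_of_eq (h : IsConstVia F A φ) {B C C' : An.Cl T} (g : B ⟶ A)
    (s : An.Cl.sect F B) {k : C ⟶ B} {k' : C' ⟶ B} {c : C.E} {c' : C'.E} (e : k.toFun c = k'.toFun c')
    {m m' : M} (hm : res F k s = res F (k ≫ g) (φ m)) (hm' : res F k' s = res F (k' ≫ g) (φ m')) :
    m = m' := by
  let d : (fibProd k k').E := ⟨(c, c'), e⟩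
  refine h.injective (fibFst k k' ≫ k ≫ g) d ?_
  rw [res_comp, ← hm, ← res_comp, fib_condition, res_comp, hm', ← res_comp]
  congr 2
  rw [← Category.assoc, ← fib_condition, Category.assoc]

theorem val_eq (h : IsConstVia F A φ) {B C : An.Cl T} (g : B ⟶ A)
    (s : An.Cl.sect F B) (k : C ⟶ B) (c : C.E) {m : M}
    (hm : res F k s = res F (k ≫ g) (φ m)) : val h g s (k.toFun c) = m := by
  obtain ⟨C', k', c', e, hm'⟩ := val_spec h g s (k.toFun c)
  exact val_eq_of_eq h g s e hm' hm

theorem val_res (h : IsConstVia F A φ) {B C : An.Cl T} (g : B ⟶ A)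
    (s : An.Cl.sect F B) (k : C ⟶ B) (c : C.E) :
    val h (k ≫ g) (res F k s) c = val h g s (k.toFun c) := by
  obtain ⟨D, l, d, e, hm⟩ := val_spec h (k ≫ g) (res F k s) c
  subst e
  refine (val_eq h g s (l ≫ k) d ?_).symm
  rw [res_comp, hm, Category.assoc]

@[simp] theorem val_const (h : IsConstVia F A φ) {B : An.Cl T} (g : B ⟶ A) (m : M) (b : B.E) :
    val h g (res F g (φ m)) b = m := by
  have := val_eq h g (res F g (φ m)) (𝟙 B) b (m := m) (by rw [← res_comp])
  exact this

theorem val_sub (h : IsConstVia F A φ) {B : An.Cl T} (g : B ⟶ A) (s s' : An.Cl.sect F B) (b : B.E) :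
    val h g (s - s') b = val h g s b - val h g s' b := by
  obtain ⟨C, k, c, e, hm⟩ := val_spec h g s b
  obtain ⟨C', k', c', e', hm'⟩ := val_spec h g s' b
  have ee : k.toFun c = k'.toFun c' := e.trans e'.symm
  let d : (fibProd k k').E := ⟨(c, c'), ee⟩
  have hd : (fibFst k k' ≫ k).toFun d = b := e
  rw [← hd]
  refine val_eq h g (s - s') (fibFst k k' ≫ k) d ?_
  rw [map_sub, map_sub, map_sub, hd]
  congr 1
  · rw [res_comp, hm, ← res_comp, Category.assoc]
  · rw [fib_condition, res_comp, hm', ← res_comp, Category.assoc]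

theorem val_zero (h : IsConstVia F A φ) {B : An.Cl T} (g : B ⟶ A) (b : B.E) :
    val h g (0 : An.Cl.sect F B) b = 0 := by
  have := val_sub h g (0 : An.Cl.sect F B) 0 b
  rwa [sub_self, sub_self] at this

theorem val_neg (h : IsConstVia F A φ) {B : An.Cl T} (g : B ⟶ A) (s : An.Cl.sect F B) (b : B.E) :
    val h g (-s) b = - val h g s b := by
  rw [← zero_sub, val_sub, val_zero, zero_sub]

theorem val_add (h : IsConstVia F A φ) {B : An.Cl T} (g : B ⟶ A) (s s' : An.Cl.sect F B) (b : B.E) :
    val h g (s + s') b = val h g s b + val h g s' b := by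
  rw [← sub_neg_eq_add, val_sub, val_neg, sub_neg_eq_add]

/-- A section whose values vanish is zero. -/
theorem eq_zero_of_val (h : IsConstVia F A φ) {B : An.Cl T} (g : B ⟶ A) (s : An.Cl.sect F B)
    (hs : ∀ b, val h g s b = 0) : s = 0 := by
  refine eq_zero_of_forall F s fun b => ?_
  obtain ⟨C, k, c, e, hm⟩ := val_spec h g s b
  exact ⟨C, k, c, e, by rw [hm, hs, map_zero, map_zero]⟩

theorem ext_of_val (h : IsConstVia F A φ) {B : An.Cl T} (g : B ⟶ A) {s s' : An.Cl.sect F B}
    (hs : ∀ b, val h g s b = val h g s' b) : s = s' :=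
  sub_eq_zero.1 (eq_zero_of_val h g _ fun b => by rw [val_sub, hs, sub_self])

/-- The values of a section are locally constant. -/
theorem isLocallyConstant_val (h : IsConstVia F A φ) {B : An.Cl T} (g : B ⟶ A)
    (s : An.Cl.sect F B) : IsLocallyConstant (val h g s) := by
  rw [IsLocallyConstant.iff_exists_open]
  intro b
  obtain ⟨C, k, c, e, hm⟩ := val_spec h g s b
  refine ⟨Set.range k.toFun, (isLocalHomeomorph_toFun k).isOpenMap.isOpen_range, ⟨c, e⟩, ?_⟩
  rintro _ ⟨c', rfl⟩
  exact val_eq h g s k c' hm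

end

end Groth.Agent.An.H877.Val
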