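import Groth.Agent.An.H877.FinCovV
import Groth.Agent.An.H14.KillOne
import Groth.Agent.An.H896.ChartEt
import Groth.Agent.An.H885.EpsUnit
import Groth.Agent.An.H888.Dies
import Groth.Agent.An.H888.Collapse
import Groth.Agent.Etrest.ConstBasic

/-!
# Comparison of étale and classical cohomology of smooth curves with finite constant coefficients

`Van2 T`: vanishing of the cohomology in degrees `≥ 2` of finite coverings of `ℂ ∖ S` (on `Cl T`).
* `isZero_epsRpush` : `R^q ε_* M = 0`, `q > 0`, for `X` smooth over `ℂ` of dimension `≤ 1`;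
* `hcmpConst_bijective` : the comparison map is bijective for these `X` (no properness).
-/

set_option autoImplicit false

open CategoryTheory CategoryTheory.Limits AlgebraicGeometry Topology TopologicalSpace Polynomial
open An Opposite CategoryTheory.Abelian

noncomputable section

namespace Groth.Agent.An.H877.Asm4224

open Groth.Agent.An Groth.Agent.An.H579.RetCov Groth.Agent.An.H888
open Groth.Agent.An.H888.Dies

/-- Vanishing in degrees `≥ 2` for finite coverings of `ℂ ∖ S`. -/
def Van2 (T : Type) [TopologicalSpace T] : Prop :=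
  ∀ (A : Cl T) (S : Finset ℂ) (p : A.E → ℂ), FinCov (S : Set ℂ) p →
    ∀ (M : Type) [AddCommGroup M] [Finite M] (q : ℕ), 2 ≤ q →
      Subsingleton (ClsH.HA A (Cl.const T M) q)

/-- Classes of positive degree over a one-point object vanish. -/
theorem eq_zero_of_subsingleton {T : Type} [TopologicalSpace T] (A : Cl T) (a : A.E)
    [Subsingleton A.E] (G : Cl.Ab T) (q : ℕ) (x : ClsH.HA A G (q + 1)) : x = 0 := by
  obtain ⟨S, hS, h⟩ := ClsH.exists_cover_res_eq_zero A q G x
  obtain ⟨B, g, hg, -, b, hb⟩ := hS a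
  let s : A ⟶ B := ⟨fun _ => b, continuous_const, fun a' => by
    rw [← g.over, hb]
    exact congrArg A.p (Subsingleton.elim _ _)⟩
  have e : s ≫ g = 𝟙 A := Cl.hom_ext (funext fun a' => Subsingleton.elim _ _)
  have h1 := ClsH.res_zero_of_res g s x (h g hg)
  rwa [e, ClsH.res_id] at h1

theorem subsingleton_pts (V : Scheme.{0}) [V.Over SC] (h : IsIso (V ↘ SC)) :
    Subsingleton (Pts V) := by
  refine ⟨fun x y => Subtype.ext ?_⟩
  rw [← cancel_mono (V ↘ SC), x.2, y.2]

variable (X : Scheme.{0}) [X.Over SC] [LocallyOfFiniteType (X ↘ SC)] [Smooth (X ↘ SC)]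
  (hdim : topologicalKrullDim X ≤ 1) [Fact EtaleLH]
include hdim

theorem diesAt (hV : Van2 (Pts X)) (M : Type) [AddCommGroup M] [Finite M] (U : X.Etale) (q : ℕ)
    (x : ClsH.HA ((eps X).obj U) (Cl.const (Pts X) M) (q + 1)) (a : Pts U.left) : DiesAt x a := by
  obtain ⟨V, g, b, hb, hgood⟩ := H896.ChartEt.exists_chart_etale X hdim U a
  rcases hgood with hiso | ⟨D, hD, π, hf, he, hπ⟩
  · have h1 : Subsingleton ((eps X).obj V).E := subsingleton_pts V.left hiso
    exact ⟨V, g, b, hb, eq_zero_of_subsingleton ((eps X).obj V) b _ q _⟩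
  · cases q with
    | zero =>
      obtain ⟨W, g', hs, hres⟩ := H14.KillOne.exists_kill_one X V D hD π hπ M
        (ClsH.res ((eps X).map g) x)
      obtain ⟨w, hw⟩ := hs b
      refine ⟨W, g' ≫ g, w, ?_, ?_⟩
      · rw [← hb, ← hw]
        exact Subtype.ext (Category.assoc _ _ _).symm
      · rw [Functor.map_comp, ← ClsH.res_res, hres]
    | succ q =>
      obtain ⟨S, p, hp⟩ := FinCovV.exists_finCov D hD π hπ
      have h1 := hV ((eps X).obj V) S p hp M (q + 1 + 1) (by omega)
      exact ⟨V, g, b, hb, Subsingleton.elim _ _⟩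

variable [EpsCont X]

/-- `R^q ε_* M = 0` for `q > 0`, `X` smooth over `ℂ` of dimension at most one. -/
theorem isZero_epsRpush (hV : Van2 (Pts X)) (M : Type) [AddCommGroup M] [Finite M] (q : ℕ)
    (hq : 0 < q) : IsZero ((epsRpush X q).obj (Cl.const (Pts X) M)) :=
  Dies.isZero_epsRpush X _ (fun U q x a => diesAt X hdim hV M U q x a) q hq

/-- The comparison map is bijective for smooth `X` of dimension at most one and finite constant
coefficients. -/
theorem hcmpConst_bijective (hV : Van2 (Pts X)) [PreservesFiniteLimits (epsPull X)] (M : Type)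
    [AddCommGroup M] [Finite M] (q : ℕ) : Function.Bijective (HcmpConst X M q) := by
  rw [Collapse.hcmpConst_bijective_iff]
  refine Collapse.hcmp_bijective_of_acyclic X _ ?_ (fun q hq => ?_) q
  · exact H885.EpsUnit.isIso_unit X _ (H885.EpsUnit.isLC_of_isFiniteLocallyConstant X _
      (Groth.Agent.Etrest.ConstBasic.isFiniteLocallyConstant_const X M))
  · exact (isZero_epsRpush X hdim hV M q hq).of_iso
      ((epsRpush X q).mapIso (epsPullConst X M))

end Groth.Agent.An.H877.Asm4224
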