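import Groth.Agent.An.H537.Cosheaf

/-!
# Cohomology of disjoint unions and good covers, with respect to a cosheaf `Z : Opens Y ⥤ A`

* `isZero_bot`, `subsingleton_bot` : the empty open has no cohomology;
* `bij_iSup` : `H^n(⨆ U i, F) → ∏ H^n(U i, F)` is bijective for a finite disjoint family;
* `subsingleton_iSup`, `finite_iSup`, `bijective_iSup` : consequences.
-/

set_option autoImplicit false
universe w v u t

open CategoryTheory Category Limits Abelian TopologicalSpace

noncomputable section

namespace Groth.Agent.An.H877.Disj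

open Groth.Agent.An.H537 Gen Cosheaf

variable {Y : Type t} [TopologicalSpace Y] {A : Type u} [Category.{v} A] [Abelian A]
  {Z : Opens Y ⥤ A} (hZ : IsCosheaf Z)
include hZ

theorem isZero_bot : IsZero (Z.obj ⊥) := by
  rw [IsZero.iff_id_eq_zero]
  exact hZ.hom_ext (I := Empty) (fun e => e.elim) ⊥ (fun e => e.elim) bot_le _ _ (fun e => e.elim)

theorem isZero_of_eq_bot {U : Opens Y} (h : U = ⊥) : IsZero (Z.obj U) := h ▸ isZero_bot hZ

theorem subsingleton_of_eq_bot [HasExt.{w} A] (F : A) (n : ℕ) {U : Opens Y} (h : U = ⊥) :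
    Subsingleton (H Z F n U) := by
  refine subsingleton_of_forall_eq 0 fun x => ?_
  have h0 : 𝟙 (Z.obj U) = 0 := (isZero_of_eq_bot hZ h).eq_of_src _ _
  rw [← Ext.mk₀_id_comp x, h0, Ext.mk₀_zero, Ext.zero_comp]

section Family

variable {I : Type} (U : I → Opens Y) (hU : ∀ i j, i ≠ j → U i ⊓ U j = ⊥)

include hU in
theorem exists_proj (j : I) : ∃ f : Z.obj (iSup U) ⟶ Z.obj (U j),
    ι Z (le_iSup U j) ≫ f = 𝟙 _ ∧ ∀ i, i ≠ j → ι Z (le_iSup U i) ≫ f = 0 := by
  classical
  obtain ⟨f, hf⟩ := hZ.glue U (iSup U) (le_iSup U) le_rfl (F := Z.obj (U j))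
    (fun i => if h : i = j then eqToHom (by rw [h]) else 0) (by
      intro i i'
      by_cases h : i = i'
      · subst h
        rfl
      · exact (isZero_of_eq_bot hZ (hU i i' h)).eq_of_src _ _)
  refine ⟨f, ?_, fun i hi => ?_⟩
  · rw [hf j, dif_pos rfl, eqToHom_refl]
  · rw [hf i, dif_neg hi]

/-- `Z (⨆ U i)` as the biproduct of the `Z (U i)`. -/
def bicone : Bicone (fun i => Z.obj (U i)) where
  pt := Z.obj (iSup U)
  π j := (exists_proj hZ U hU j).choose
  ι j := ι Z (le_iSup U j)
  ι_π i j := by
    by_cases h : i = j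
    · subst h
      rw [dif_pos rfl, eqToHom_refl]
      exact (exists_proj hZ U hU i).choose_spec.1
    · rw [dif_neg h]
      exact (exists_proj hZ U hU j).choose_spec.2 i h

theorem bicone_total [Fintype I] :
    ∑ j : I, (bicone hZ U hU).π j ≫ (bicone hZ U hU).ι j = 𝟙 (bicone hZ U hU).pt := by
  refine hZ.hom_ext U (iSup U) (le_iSup U) le_rfl _ _ fun i => ?_
  change (bicone hZ U hU).ι i ≫ _ = (bicone hZ U hU).ι i ≫ _
  rw [Preadditive.comp_sum, Finset.sum_eq_single i]
  · rw [← assoc, bicone_ι_π_self, id_comp]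
    exact (comp_id _).symm
  · intro j _ hj
    rw [← assoc, bicone_ι_π_ne _ hj.symm, zero_comp]
  · intro h
    exact absurd (Finset.mem_univ i) h

variable [HasExt.{w} A] (F : A) (n : ℕ)

include hU in
/-- Cohomology of a finite disjoint union. -/
theorem bij_iSup [Finite I] :
    Function.Bijective (fun (x : H Z F n (iSup U)) (i : I) => r Z F n (le_iSup U i) x) := by
  cases nonempty_fintype I
  exact (Ext.biproductAddEquiv (isBilimitOfTotal (bicone hZ U hU) (bicone_total hZ U hU)) F
    n).bijective

include hU in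
theorem subsingleton_iSup [Finite I] (h : ∀ i, Subsingleton (H Z F n (U i))) :
    Subsingleton (H Z F n (iSup U)) :=
  (bij_iSup hZ U hU F n).injective.subsingleton

include hU in
theorem finite_iSup [Finite I] (h : ∀ i, Finite (H Z F n (U i))) : Finite (H Z F n (iSup U)) :=
  Finite.of_injective _ (bij_iSup hZ U hU F n).injective

include hU in
/-- Restriction between disjoint unions. -/
theorem bijective_iSup [Finite I] (U' : I → Opens Y) (hle : ∀ i, U' i ≤ U i)
    (h : ∀ i, Function.Bijective (r Z F n (hle i))) (hle' : iSup U' ≤ iSup U) :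
    Function.Bijective (r Z F n hle') := by
  have hU' : ∀ i j, i ≠ j → U' i ⊓ U' j = ⊥ := fun i j hij =>
    le_bot_iff.1 ((inf_le_inf (hle i) (hle j)).trans (hU i j hij).le)
  have h1 := bij_iSup hZ U hU F n
  have h2 := bij_iSup hZ U' hU' F n
  have h3 : Function.Bijective (fun (x : ∀ i, H Z F n (U i)) (i : I) => r Z F n (hle i) (x i)) := by
    constructor
    · intro x y hxy
      funext i
      exact (h i).1 (congrFun hxy i)
    · intro y
      choose x hx using fun i => (h i).2 (y i)
      exact ⟨x, funext hx⟩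
  have h4 := h3.comp h1
  have e : (fun (x : ∀ i, H Z F n (U i)) (i : I) => r Z F n (hle i) (x i)) ∘
      (fun (x : H Z F n (iSup U)) (i : I) => r Z F n (le_iSup U i) x) =
      (fun (x : H Z F n (iSup U')) (i : I) => r Z F n (le_iSup U' i) x) ∘
        (r Z F n hle' : H Z F n (iSup U) → H Z F n (iSup U')) := by
    funext x i
    simp only [Function.comp_apply, r_r]
  rw [e] at h4
  exact (Function.Bijective.of_comp_iff' h2 _).1 h4

end Family

end Groth.Agent.An.H877.Disj
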