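import Groth.Agent.An.H14.LineSpec
import Groth.Agent.An.H879.Covering
import Groth.Agent.An.H866.EtLH

/-!
# The complex points of a finite étale `ℂ[X]_D`-scheme as a finite covering of `ℂ ∖ S`
-/

set_option autoImplicit false

open CategoryTheory AlgebraicGeometry Topology TopologicalSpace Polynomial
open An

noncomputable section

namespace Groth.Agent.An.H877.FinCovV

open Groth.Agent.An Groth.Agent.An.H579.RetCov

/-- `V(ℂ)` is a finite covering of `ℂ ∖ S` if `V` is finite étale over `Spec ℂ[X]_D`, `D ≠ 0`. -/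
theorem exists_finCov {V : Scheme.{0}} [V.Over SC] (D : ℂ[X]) (hD : D ≠ 0)
    (π : V ⟶ Spec (CommRingCat.of (Localization.Away D))) [IsFinite π] [Etale π]
    (hπ : π ≫ Spec.map (CommRingCat.ofHom
      ((algebraMap ℂ[X] (Localization.Away D)).comp Polynomial.C)) = V ↘ SC) :
    ∃ (S : Finset ℂ) (p : Pts V → ℂ), FinCov (S : Set ℂ) p := by
  let _ : (Spec (CommRingCat.of (Localization.Away D))).Over SC :=
    ⟨Spec.map (CommRingCat.ofHom ((algebraMap ℂ[X] (Localization.Away D)).comp Polynomial.C))⟩
  have h1 : π.IsOver SC := ⟨hπ⟩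
  have hl := H14.LineSpec.isLine_spec (D := D) (Localization.Away D) rfl
  have h2 : LocallyOfFiniteType (Spec (CommRingCat.of (Localization.Away D)) ↘ SC) := hl.lft
  have hlh : IsLocalHomeomorph (Pts.map π) := H866.EtLH.isLocalHomeomorph_map π
  exact ⟨D.roots.toFinset, _, H14.Re1Sch.finCov hl hD (Pts.map π)
    (H879.Covering.isCoveringMap_map π hlh) (H879.FiniteClosed.finite_fibre_of_isFinite π)⟩

end Groth.Agent.An.H877.FinCovV
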