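import Groth.Agent.An.H877.Disj
import Mathlib.GroupTheory.Index

/-!
# Five lemma, finiteness and vanishing from Mayer-Vietoris, for a cosheaf `Z : Opens Y ⥤ A`

* `injective_succ`, `surjective_succ`, `bijective` : comparison for `W₁' ⊔ W₂' ≤ W₁ ⊔ W₂`;
* `subsingleton_succ`, `finite_zero`, `finite_succ`;
* `GoodCover.*` : two finite disjoint families covering `E`, with acyclic members and acyclic
  pairwise intersections: `H^q(E) = 0` for `q ≥ 2`, restriction to a smaller `E'` is bijective,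
  finiteness.
-/

set_option autoImplicit false
universe w v u t

open CategoryTheory Category Limits Abelian TopologicalSpace

noncomputable section

namespace Groth.Agent.An.H877.Five

open Groth.Agent.An.H537 Gen Cosheaf

variable {Y : Type t} [TopologicalSpace Y] {A : Type u} [Category.{v} A] [Abelian A]
  {Z : Opens Y ⥤ A} (hZ : IsCosheaf Z) [HasExt.{w} A] (F : A)

section Two

variable {W₁ W₂ W₁' W₂' : Opens Y} (h₁ : W₁' ≤ W₁) (h₂ : W₂' ≤ W₂)

include hZ in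
/-- Classes of degree zero vanishing on both opens vanish. -/
theorem eq_zero_of_zero (x : H Z F 0 (W₁ ⊔ W₂)) (h : r Z F 0 le_sup_left x = 0)
    (h' : r Z F 0 le_sup_right x = 0) : x = 0 := by
  obtain ⟨f, rfl⟩ := exists_mk₀ Z x
  have e : f = 0 := by
    apply hZ.hom_ext₂
    · rw [comp_zero]
      apply mk₀_inj Z
      rw [Ext.mk₀_zero]
      rw [res_mk₀] at h
      exact h
    · rw [comp_zero]
      apply mk₀_inj Z
      rw [Ext.mk₀_zero]
      rw [res_mk₀] at h'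
      exact h'
  rw [e, Ext.mk₀_zero]

include hZ in
theorem injective_zero (i₁ : Function.Injective (r Z F 0 h₁)) (i₂ : Function.Injective (r Z F 0 h₂)) :
    Function.Injective (r Z F 0 (sup_le_sup h₁ h₂)) := by
  rw [injective_iff_map_eq_zero]
  intro x hx
  apply eq_zero_of_zero hZ
  · apply (injective_iff_map_eq_zero _).1 i₁
    have := congrArg (r Z F 0 (le_sup_left : W₁' ≤ W₁' ⊔ W₂')) hx
    rw [r_r, map_zero] at this
    rw [r_r]
    exact this
  · apply (injective_iff_map_eq_zero _).1 i₂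
    have := congrArg (r Z F 0 (le_sup_right : W₂' ≤ W₁' ⊔ W₂')) hx
    rw [r_r, map_zero] at this
    rw [r_r]
    exact this

include hZ in
theorem injective_succ (n : ℕ) (i₁ : Function.Injective (r Z F (n + 1) h₁))
    (i₂ : Function.Injective (r Z F (n + 1) h₂)) (s₁ : Function.Surjective (r Z F n h₁))
    (s₂ : Function.Surjective (r Z F n h₂))
    (i : Function.Injective (r Z F n (inf_le_inf h₁ h₂))) :
    Function.Injective (r Z F (n + 1) (sup_le_sup h₁ h₂)) := by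
  rw [injective_iff_map_eq_zero]
  intro x hx
  have e₁ : r Z F (n + 1) le_sup_left x = 0 := by
    apply (injective_iff_map_eq_zero _).1 i₁
    have := congrArg (r Z F (n + 1) (le_sup_left : W₁' ≤ W₁' ⊔ W₂')) hx
    rw [r_r, map_zero] at this
    rw [r_r]
    exact this
  have e₂ : r Z F (n + 1) le_sup_right x = 0 := by
    apply (injective_iff_map_eq_zero _).1 i₂
    have := congrArg (r Z F (n + 1) (le_sup_right : W₂' ≤ W₁' ⊔ W₂')) hx
    rw [r_r, map_zero] at this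
    rw [r_r]
    exact this
  obtain ⟨η, rfl⟩ := exists_mvδ hZ x e₁ e₂
  rw [res_mvδ hZ h₁ h₂] at hx
  obtain ⟨x₁', x₂', h'⟩ := exists_res_sub hZ _ hx
  obtain ⟨x₁, rfl⟩ := s₁ x₁'
  obtain ⟨x₂, rfl⟩ := s₂ x₂'
  have e : r Z F n (inf_le_left : W₁ ⊓ W₂ ≤ W₁) x₁ - r Z F n inf_le_right x₂ = η := by
    apply i
    rw [map_sub, ← h', r_r, r_r, r_r, r_r]
  rw [← e, map_sub, mvδ_res_left, mvδ_res_right, sub_zero]

include hZ in
theorem surjective_aux (n : ℕ) (s₁ : Function.Surjective (r Z F n h₁))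
    (s₂ : Function.Surjective (r Z F n h₂)) (i : Function.Injective (r Z F n (inf_le_inf h₁ h₂)))
    (x' : H Z F n (W₁' ⊔ W₂')) : ∃ x : H Z F n (W₁ ⊔ W₂),
      r Z F n le_sup_left (x' - r Z F n (sup_le_sup h₁ h₂) x) = 0 ∧
      r Z F n le_sup_right (x' - r Z F n (sup_le_sup h₁ h₂) x) = 0 := by
  obtain ⟨x₁, hx₁⟩ := s₁ (r Z F n le_sup_left x')
  obtain ⟨x₂, hx₂⟩ := s₂ (r Z F n le_sup_right x')
  obtain ⟨x, e₁, e₂⟩ := mv_glue hZ x₁ x₂ (by
    apply i
    have a1 := congrArg (r Z F n (inf_le_left : W₁' ⊓ W₂' ≤ W₁')) hx₁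
    have a2 := congrArg (r Z F n (inf_le_right : W₁' ⊓ W₂' ≤ W₂')) hx₂
    rw [r_r, r_r] at a1 a2
    rw [r_r, r_r]
    exact a1.trans a2.symm)
  refine ⟨x, ?_, ?_⟩
  · rw [map_sub, r_r, ← hx₁, ← e₁, r_r, sub_self]
  · rw [map_sub, r_r, ← hx₂, ← e₂, r_r, sub_self]

include hZ in
theorem surjective_zero (s₁ : Function.Surjective (r Z F 0 h₁))
    (s₂ : Function.Surjective (r Z F 0 h₂))
    (i : Function.Injective (r Z F 0 (inf_le_inf h₁ h₂))) :
    Function.Surjective (r Z F 0 (sup_le_sup h₁ h₂)) := by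
  intro x'
  obtain ⟨x, e₁, e₂⟩ := surjective_aux hZ F h₁ h₂ 0 s₁ s₂ i x'
  exact ⟨x, (sub_eq_zero.1 (eq_zero_of_zero hZ F _ e₁ e₂)).symm⟩

include hZ in
theorem surjective_succ (n : ℕ) (s₁ : Function.Surjective (r Z F (n + 1) h₁))
    (s₂ : Function.Surjective (r Z F (n + 1) h₂))
    (i : Function.Injective (r Z F (n + 1) (inf_le_inf h₁ h₂)))
    (s : Function.Surjective (r Z F n (inf_le_inf h₁ h₂))) :
    Function.Surjective (r Z F (n + 1) (sup_le_sup h₁ h₂)) := by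
  intro x'
  obtain ⟨x, e₁, e₂⟩ := surjective_aux hZ F h₁ h₂ (n + 1) s₁ s₂ i x'
  obtain ⟨η', hη'⟩ := exists_mvδ hZ _ e₁ e₂
  obtain ⟨η, rfl⟩ := s η'
  refine ⟨x + mvδ hZ W₁ W₂ F n η, ?_⟩
  rw [map_add, res_mvδ hZ h₁ h₂, hη', add_sub_cancel]

include hZ in
/-- **Five lemma** for Mayer-Vietoris. -/
theorem bijective (b₁ : ∀ n, Function.Bijective (r Z F n h₁))
    (b₂ : ∀ n, Function.Bijective (r Z F n h₂))
    (b : ∀ n, Function.Bijective (r Z F n (inf_le_inf h₁ h₂))) (n : ℕ) :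
    Function.Bijective (r Z F n (sup_le_sup h₁ h₂)) := by
  cases n with
  | zero => exact ⟨injective_zero hZ F h₁ h₂ (b₁ 0).1 (b₂ 0).1,
      surjective_zero hZ F h₁ h₂ (b₁ 0).2 (b₂ 0).2 (b 0).1⟩
  | succ n => exact ⟨injective_succ hZ F h₁ h₂ n (b₁ _).1 (b₂ _).1 (b₁ _).2 (b₂ _).2 (b _).1,
      surjective_succ hZ F h₁ h₂ n (b₁ _).2 (b₂ _).2 (b _).1 (b _).2⟩

include hZ in
theorem subsingleton_succ (n : ℕ) (s₁ : Subsingleton (H Z F (n + 1) W₁))
    (s₂ : Subsingleton (H Z F (n + 1) W₂)) (s : Subsingleton (H Z F n (W₁ ⊓ W₂))) :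
    Subsingleton (H Z F (n + 1) (W₁ ⊔ W₂)) := by
  refine subsingleton_of_forall_eq 0 fun x => ?_
  obtain ⟨η, rfl⟩ := exists_mvδ hZ x (Subsingleton.elim _ _) (Subsingleton.elim _ _)
  rw [Subsingleton.elim η 0, map_zero]

include hZ in
theorem finite_zero (s₁ : Finite (H Z F 0 W₁)) (s₂ : Finite (H Z F 0 W₂)) :
    Finite (H Z F 0 (W₁ ⊔ W₂)) := by
  refine Finite.of_injective (fun x => (r Z F 0 (le_sup_left : W₁ ≤ W₁ ⊔ W₂) x,
    r Z F 0 (le_sup_right : W₂ ≤ W₁ ⊔ W₂) x)) ?_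
  intro x y h
  rw [← sub_eq_zero]
  refine eq_zero_of_zero hZ F _ ?_ ?_
  · rw [map_sub, sub_eq_zero]
    exact (Prod.ext_iff.1 h).1
  · rw [map_sub, sub_eq_zero]
    exact (Prod.ext_iff.1 h).2

include hZ in
theorem finite_succ (n : ℕ) (s₁ : Finite (H Z F (n + 1) W₁)) (s₂ : Finite (H Z F (n + 1) W₂))
    (s : Finite (H Z F n (W₁ ⊓ W₂))) : Finite (H Z F (n + 1) (W₁ ⊔ W₂)) := by
  let f : H Z F (n + 1) (W₁ ⊔ W₂) →+ H Z F (n + 1) W₁ × H Z F (n + 1) W₂ :=
    (r Z F (n + 1) le_sup_left).prod (r Z F (n + 1) le_sup_right)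
  rw [f.finite_iff_finite_ker_range]
  refine ⟨?_, inferInstance⟩
  have : (f.ker : Set (H Z F (n + 1) (W₁ ⊔ W₂))) ⊆ Set.range (mvδ hZ W₁ W₂ F n) := by
    intro x hx
    have hx' := Prod.ext_iff.1 ((AddMonoidHom.mem_ker).1 hx)
    exact exists_mvδ hZ x hx'.1 hx'.2
  exact ((Set.finite_range _).subset this).to_subtype

end Two

section GoodCover

variable {I J : Type} (U : I → Opens Y) (V : J → Opens Y)
  (hU : ∀ i j, i ≠ j → U i ⊓ U j = ⊥) (hV : ∀ i j, i ≠ j → V i ⊓ V j = ⊥)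
  {E E' : Opens Y} (hE : E ≤ iSup U ⊔ iSup V) (hE' : E' ≤ E)

omit [Abelian A] [HasExt.{w} A] in
include hE in
theorem sup_eq : (⨆ i, U i ⊓ E) ⊔ (⨆ j, V j ⊓ E) = E := by
  rw [← iSup_inf_eq, ← iSup_inf_eq, ← inf_sup_right]
  exact inf_eq_right.2 hE

theorem inf_eq : (⨆ i, U i ⊓ E) ⊓ (⨆ j, V j ⊓ E) = ⨆ p : I × J, (U p.1 ⊓ V p.2) ⊓ E := by
  rw [← iSup_inf_eq, ← iSup_inf_eq, ← iSup_inf_eq, ← inf_inf_distrib_right, iSup_inf_iSup]

include hU in
theorem disj_inf (i j : I) (hij : i ≠ j) : (U i ⊓ E) ⊓ (U j ⊓ E) = ⊥ :=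
  le_bot_iff.1 ((inf_le_inf inf_le_left inf_le_left).trans (hU i j hij).le)

include hU hV in
theorem disj_prod (p q : I × J) (hpq : p ≠ q) :
    ((U p.1 ⊓ V p.2) ⊓ E) ⊓ ((U q.1 ⊓ V q.2) ⊓ E) = ⊥ := by
  by_cases h : p.1 = q.1
  · have h2 : p.2 ≠ q.2 := fun h2 => hpq (Prod.ext h h2)
    exact le_bot_iff.1 ((inf_le_inf (inf_le_left.trans inf_le_right)
      (inf_le_left.trans inf_le_right)).trans (hV _ _ h2).le)
  · exact le_bot_iff.1 ((inf_le_inf (inf_le_left.trans inf_le_left)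
      (inf_le_left.trans inf_le_left)).trans (hU _ _ h).le)

variable [Finite I] [Finite J]

include hZ hU hV hE in
/-- Vanishing in degrees `≥ 2` for a good cover. -/
theorem subsingleton_goodCover (n : ℕ)
    (aU : ∀ i, Subsingleton (H Z F (n + 2) (U i ⊓ E)))
    (aV : ∀ j, Subsingleton (H Z F (n + 2) (V j ⊓ E)))
    (aUV : ∀ i j, Subsingleton (H Z F (n + 1) ((U i ⊓ V j) ⊓ E))) :
    Subsingleton (H Z F (n + 2) E) := by
  have h := subsingleton_succ hZ F (W₁ := ⨆ i, U i ⊓ E) (W₂ := ⨆ j, V j ⊓ E) (n + 1)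
    (Disj.subsingleton_iSup hZ _ (disj_inf U hU) F _ aU)
    (Disj.subsingleton_iSup hZ _ (disj_inf V hV) F _ aV) (by
      rw [inf_eq]
      exact Disj.subsingleton_iSup hZ _ (disj_prod U V hU hV) F _ (fun p => aUV p.1 p.2))
  rwa [sup_eq U V hE] at h

include hZ hU hV hE in
/-- Finiteness of `H⁰` for a good cover. -/
theorem finite_zero_goodCover (aU : ∀ i, Finite (H Z F 0 (U i ⊓ E)))
    (aV : ∀ j, Finite (H Z F 0 (V j ⊓ E))) : Finite (H Z F 0 E) := by
  have h := finite_zero hZ F (W₁ := ⨆ i, U i ⊓ E) (W₂ := ⨆ j, V j ⊓ E)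
    (Disj.finite_iSup hZ _ (disj_inf U hU) F _ aU)
    (Disj.finite_iSup hZ _ (disj_inf V hV) F _ aV)
  rwa [sup_eq U V hE] at h

include hZ hU hV hE in
/-- Finiteness in positive degrees for a good cover. -/
theorem finite_succ_goodCover (n : ℕ) (aU : ∀ i, Finite (H Z F (n + 1) (U i ⊓ E)))
    (aV : ∀ j, Finite (H Z F (n + 1) (V j ⊓ E)))
    (aUV : ∀ i j, Finite (H Z F n ((U i ⊓ V j) ⊓ E))) : Finite (H Z F (n + 1) E) := by
  have h := finite_succ hZ F (W₁ := ⨆ i, U i ⊓ E) (W₂ := ⨆ j, V j ⊓ E) n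
    (Disj.finite_iSup hZ _ (disj_inf U hU) F _ aU)
    (Disj.finite_iSup hZ _ (disj_inf V hV) F _ aV) (by
      rw [inf_eq]
      exact Disj.finite_iSup hZ _ (disj_prod U V hU hV) F _ (fun p => aUV p.1 p.2))
  rwa [sup_eq U V hE] at h

omit [HasExt.{w} A] [Abelian A] in
/-- Transport of bijectivity along equalities of opens. -/
theorem bij_congr {Y : Type t} [TopologicalSpace Y] {A : Type u} [Category.{v} A] [Abelian A]
    {Z : Opens Y ⥤ A} [HasExt.{w} A] {F : A} {n : ℕ} {W W' X X' : Opens Y} {h : W' ≤ W}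
    (H : Function.Bijective (r Z F n h)) (e : W = X) (e' : W' = X') (h' : X' ≤ X) :
    Function.Bijective (r Z F n h') := by
  subst e e'
  exact H

include hZ hU hV hE in
/-- Restriction from `E` to `E'` is bijective if it is so on the members of a good cover. -/
theorem bijective_goodCover
    (bU : ∀ i n, Function.Bijective (r Z F n (inf_le_inf_left (U i) hE')))
    (bV : ∀ j n, Function.Bijective (r Z F n (inf_le_inf_left (V j) hE')))
    (bUV : ∀ i j n, Function.Bijective (r Z F n (inf_le_inf_left (U i ⊓ V j) hE'))) (n : ℕ) :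
    Function.Bijective (r Z F n hE') := by
  have l₁ : (⨆ i, U i ⊓ E') ≤ ⨆ i, U i ⊓ E := iSup_mono fun i => inf_le_inf_left (U i) hE'
  have l₂ : (⨆ j, V j ⊓ E') ≤ ⨆ j, V j ⊓ E := iSup_mono fun i => inf_le_inf_left (V i) hE'
  have h := bijective hZ F l₁ l₂
    (fun n => Disj.bijective_iSup hZ _ (disj_inf U hU) F n _ _ (fun i => bU i n) l₁)
    (fun n => Disj.bijective_iSup hZ _ (disj_inf V hV) F n _ _ (fun i => bV i n) l₂)
    (fun n => by
      have l₃ : (⨆ p : I × J, (U p.1 ⊓ V p.2) ⊓ E') ≤ ⨆ p : I × J, (U p.1 ⊓ V p.2) ⊓ E :=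
        iSup_mono fun p => inf_le_inf_left _ hE'
      exact bij_congr (Disj.bijective_iSup hZ _ (disj_prod U V hU hV) F n _ _
        (fun p => bUV p.1 p.2 n) l₃) (inf_eq U V).symm (inf_eq U V).symm _) n
  exact bij_congr h (sup_eq U V hE) (sup_eq U V (hE'.trans hE)) hE'

include hZ hU hV hE in
/-- **Good covers.**  If the members of the cover (and their intersections `U i ⊓ V j`) are acyclic
over `E` and `E'` and have the same sections over `E` and `E'`, then `H^q(E) = 0` for `q ≥ 2` and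
`H^q(E) → H^q(E')` is bijective for all `q`. -/
theorem goodCover
    (hP : ∀ W : Opens Y, ((∃ i, W = U i) ∨ (∃ j, W = V j) ∨ ∃ i j, W = U i ⊓ V j) →
      (∀ q, Subsingleton (H Z F (q + 1) (W ⊓ E))) ∧ (∀ q, Subsingleton (H Z F (q + 1) (W ⊓ E'))) ∧
      Function.Bijective (r Z F 0 (inf_le_inf_left W hE'))) :
    (∀ q, Subsingleton (H Z F (q + 2) E)) ∧ ∀ n, Function.Bijective (r Z F n hE') := by
  have hB : ∀ W : Opens Y, ((∃ i, W = U i) ∨ (∃ j, W = V j) ∨ ∃ i j, W = U i ⊓ V j) →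
      ∀ n, Function.Bijective (r Z F n (inf_le_inf_left W hE')) := by
    intro W hW n
    obtain ⟨h1, h2, h3⟩ := hP W hW
    cases n with
    | zero => exact h3
    | succ n =>
      have := h1 n
      have := h2 n
      exact ⟨Function.injective_of_subsingleton _, fun y => ⟨0, Subsingleton.elim _ _⟩⟩
  refine ⟨fun q => subsingleton_goodCover hZ F U V hU hV hE q
    (fun i => (hP _ (Or.inl ⟨i, rfl⟩)).1 _) (fun j => (hP _ (Or.inr (Or.inl ⟨j, rfl⟩))).1 _)
    (fun i j => (hP _ (Or.inr (Or.inr ⟨i, j, rfl⟩))).1 _), ?_⟩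
  exact bijective_goodCover hZ F U V hU hV hE hE' (fun i n => hB _ (Or.inl ⟨i, rfl⟩) n)
    (fun j n => hB _ (Or.inr (Or.inl ⟨j, rfl⟩)) n)
    (fun i j n => hB _ (Or.inr (Or.inr ⟨i, j, rfl⟩)) n)

end GoodCover

end Groth.Agent.An.H877.Five
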